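import Groth.Agent.FlatCxBase.FlatAlg
import Groth.Agent.Ega4Algebra2.FlatRegular
import Mathlib.RingTheory.Extension.Cotangent.Basic
import Mathlib.RingTheory.Flat.Stability
import Mathlib.RingTheory.Ideal.Cotangent

/-!
Flatness of conormal modules: independence of the presentation, and base change along flat quotients.
-/

universe u

open TensorProduct Algebra

namespace Groth.FrobLCI.NLFlat

variable {A B : Type u} [CommRing A] [CommRing B] [Algebra A B]

/-- Flatness of `I/I²` passes between extensions admitting maps both ways, with flat cotangent space. -/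
theorem flat_cotangent_of_hom (Q Q' : Extension.{u} A B) (f : Q.Hom Q') (g : Q'.Hom Q)
    [Module.Flat B Q'.Cotangent] [Module.Flat B Q.CotangentSpace] : Module.Flat B Q.Cotangent := by
  let s : Q.Cotangent →ₗ[B] Q'.Cotangent × Q.CotangentSpace :=
    LinearMap.prod (Extension.Cotangent.map f) Q.cotangentComplex
  let r : Q'.Cotangent × Q.CotangentSpace →ₗ[B] Q.Cotangent :=
    LinearMap.coprod (Extension.Cotangent.map g) ((Extension.Hom.id Q).sub (g.comp f))
  have : Module.Flat B (Q'.Cotangent × Q.CotangentSpace) :=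
    Groth.FlatCxBase.flat_of_exact_flat_right (f := LinearMap.inl B Q'.Cotangent Q.CotangentSpace)
      (g := LinearMap.snd B _ _) LinearMap.inl_injective LinearMap.snd_surjective Function.Exact.inl_snd
  refine Module.Flat.of_retract s r (LinearMap.ext fun x => ?_)
  have h := LinearMap.congr_fun (Extension.Cotangent.map_sub_map (Extension.Hom.id Q) (g.comp f)) x
  rw [Extension.Cotangent.map_id, Extension.Cotangent.map_comp] at h
  show Extension.Cotangent.map g (Extension.Cotangent.map f x) + _ = x
  exact (congrArg (Extension.Cotangent.map g (Extension.Cotangent.map f x) + ·) h.symm).trans (add_sub_cancel _ _)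

instance flat_cotangentSpace {ι : Type*} (G : Generators A B ι) : Module.Flat B G.toExtension.CotangentSpace :=
  haveI := Module.Free.of_basis G.cotangentSpaceBasis
  inferInstance

/-- Flatness of `I/I²` does not depend on the generators. -/
theorem flat_cotangent_of_generators {ι ι' : Type u} (G : Generators A B ι) (G' : Generators A B ι')
    [Module.Flat B G'.toExtension.Cotangent] : Module.Flat B G.toExtension.Cotangent :=
  flat_cotangent_of_hom _ _ (Generators.defaultHom G G').toExtensionHom (Generators.defaultHom G' G).toExtensionHom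

/-- The conormal module of an extension, as a module over the quotient of its ring. -/
theorem flat_cotangent_iff (Q : Extension.{u} A B) :
    Module.Flat B Q.Cotangent ↔ Module.Flat (Q.Ring ⧸ Q.ker) Q.ker.Cotangent := by
  let σ : (Q.Ring ⧸ Q.ker) ≃+* B := RingHom.quotientKerEquivOfSurjective Q.algebraMap_surjective
  let e : Q.ker.Cotangent ≃+ Q.Cotangent := Q.cotangentEquivCotangentKer.symm.toAddEquiv
  have he : ∀ (r : Q.Ring ⧸ Q.ker) (x : Q.ker.Cotangent), e (r • x) = σ r • e x := fun r x => by
    obtain ⟨p, rfl⟩ := Ideal.Quotient.mk_surjective r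
    refine Extension.Cotangent.ext ?_
    show Ideal.Quotient.mk Q.ker p • x = Q.σ (algebraMap Q.Ring B p) • x
    rw [← Ideal.Quotient.algebraMap_eq, algebraMap_smul, ← sub_eq_zero, ← sub_smul]
    refine Extension.Cotangent.smul_eq_zero_of_mem (P := Q) _ ?_ _
    simp [RingHom.mem_ker]
  constructor
  · intro h
    exact Groth.Ega4b.flat_of_semilinear σ.symm e.symm fun r x => e.injective (by
      rw [he, AddEquiv.apply_symm_apply, AddEquiv.apply_symm_apply, RingEquiv.apply_symm_apply])
  · intro h
    exact Groth.Ega4b.flat_of_semilinear σ e he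

variable {P : Type u} [CommRing P] [Algebra A P] (I : Ideal P)

/-- Base change of a conormal module along a quotient flat over the base. -/
theorem flat_cotangent_baseChange [Module.Flat A (P ⧸ I)] [Module.Flat (P ⧸ I) I.Cotangent]
    (κ : Type u) [CommRing κ] [Algebra A κ] :
    Module.Flat ((P ⊗[A] κ) ⧸ I.map (algebraMap P (P ⊗[A] κ)))
      (I.map (algebraMap P (P ⊗[A] κ))).Cotangent := by
  set P' := P ⊗[A] κ
  set J := I.map (algebraMap P P') with hJ
  let ψ : P' ⊗[P] I →ₗ[P'] P' := ((Algebra.linearMap P P').comp I.subtype).liftBaseChange P'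
  have hψ : ∀ (a : P') (x : I), ψ (a ⊗ₜ[P] x) = a * algebraMap P P' x := fun a x => by
    simp [ψ]
  have hψinj : Function.Injective ψ := by
    let e : (P ⊗[A] κ) ⊗[P] I ≃ₗ[A] I ⊗[A] κ :=
      ((TensorProduct.comm P (P ⊗[A] κ) I).trans
        (TensorProduct.AlgebraTensorModule.cancelBaseChange A P P I κ)).restrictScalars A
    let Φ : (P ⊗[A] κ) ⊗[P] I →ₗ[A] P ⊗[A] κ := ((I.subtype.restrictScalars A).rTensor κ) ∘ₗ e.toLinearMap
    have h1 : ∀ w, ψ w = Φ w := fun w => by
      induction w using TensorProduct.induction_on with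
      | zero => exact (map_zero ψ).trans (map_zero Φ).symm
      | add a b ha hb => rw [map_add, ha, hb, map_add]
      | tmul a x =>
        induction a using TensorProduct.induction_on with
        | zero => rw [zero_tmul]; exact (map_zero ψ).trans (map_zero Φ).symm
        | add a b ha hb => rw [add_tmul, map_add, ha, hb, map_add]
        | tmul p k =>
          rw [hψ, Algebra.TensorProduct.algebraMap_apply, Algebra.TensorProduct.tmul_mul_tmul, mul_one]
          show _ = (p • x : I).1 ⊗ₜ[A] k
          rw [Submodule.coe_smul, smul_eq_mul]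
          rfl
    have h2 : Function.Injective ((I.subtype.restrictScalars A).rTensor κ) := by
      exact Groth.FlatCxBase.rTensor_injective_of_flat (g := (Submodule.mkQ I).restrictScalars A)
        (Submodule.subtype_injective I) (Submodule.mkQ_surjective I) (LinearMap.exact_subtype_mkQ I) κ
    intro a b hab
    rw [h1, h1] at hab
    exact e.injective (h2 hab)
  have hrange : LinearMap.range ψ = J := by
    refine le_antisymm ?_ (Ideal.map_le_iff_le_comap.2 fun a ha => ⟨1 ⊗ₜ ⟨a, ha⟩, by simp [hψ]⟩)
    rintro _ ⟨z, rfl⟩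
    induction z using TensorProduct.induction_on with
    | zero => simp
    | tmul a x => rw [hψ]; exact J.mul_mem_left _ (Ideal.mem_map_of_mem _ x.2)
    | add a b ha hb => rw [map_add]; exact add_mem ha hb
  let σ : (P' ⊗[P] I) ≃ₗ[P'] J := (LinearEquiv.ofInjective ψ hψinj).trans (LinearEquiv.ofEq _ _ hrange)
  let T := (P' ⧸ J) ⊗[P ⧸ I] I.Cotangent
  let one : I.Cotangent →ₗ[P] T :=
    ((TensorProduct.mk (P ⧸ I) (P' ⧸ J) I.Cotangent 1).restrictScalars P)
  let π : P' ⊗[P] I →ₗ[P'] T := (one.comp I.toCotangent).liftBaseChange P'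
  let θ₀ : J →ₗ[P'] T := π.comp σ.symm.toLinearMap
  have hkill : ∀ (c : P'), c ∈ J → ∀ t : T, c • t = 0 := fun c hc t => by
    rw [← algebraMap_smul (P' ⧸ J) c t, Ideal.Quotient.algebraMap_eq, Ideal.Quotient.eq_zero_iff_mem.2 hc]
    exact zero_smul (P' ⧸ J) t
  let θ : J.Cotangent →ₗ[P'] T := Submodule.liftQ _ θ₀ (Submodule.smul_le.2 fun c hc v _ => by
    rw [LinearMap.mem_ker, map_smul]
    exact hkill c hc _)
  let m : I.Cotangent →ₗ[P] J.Cotangent :=
    Ideal.mapCotangent I J (Algebra.ofId P P') (fun a ha => Ideal.mem_map_of_mem _ ha)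
  let _ : Module (P ⧸ I) J.Cotangent := Module.compHom _ (algebraMap (P ⧸ I) (P' ⧸ J))
  have : IsScalarTower (P ⧸ I) (P' ⧸ J) J.Cotangent := IsScalarTower.of_algebraMap_smul fun _ _ => rfl
  have : IsScalarTower P (P ⧸ I) J.Cotangent := IsScalarTower.of_algebraMap_smul fun (a : P) z => by
    show algebraMap (P ⧸ I) (P' ⧸ J) (algebraMap P (P ⧸ I) a) • z = a • z
    rw [← IsScalarTower.algebraMap_apply, IsScalarTower.algebraMap_apply P P' (P' ⧸ J), algebraMap_smul,
      algebraMap_smul]
  let m' : I.Cotangent →ₗ[P ⧸ I] J.Cotangent := m.extendScalarsOfSurjective Ideal.Quotient.mk_surjective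
  let χ : T →ₗ[P' ⧸ J] J.Cotangent := m'.liftBaseChange (P' ⧸ J)
  have hθχ : ∀ t, θ (χ t) = t := fun t => by
    induction t using TensorProduct.induction_on with
    | zero => simp
    | add a b ha hb => rw [map_add, map_add, ha, hb]
    | tmul q y =>
      obtain ⟨a, rfl⟩ := Ideal.Quotient.mk_surjective q
      obtain ⟨x, rfl⟩ := I.toCotangent_surjective y
      have h1 : χ (Ideal.Quotient.mk J a ⊗ₜ I.toCotangent x) = J.toCotangent (σ (a ⊗ₜ[P] x)) := by
        show m'.liftBaseChange (P' ⧸ J) _ = _
        rw [LinearMap.liftBaseChange_tmul]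
        rw [← Ideal.Quotient.algebraMap_eq, algebraMap_smul]
        show a • J.toCotangent ⟨algebraMap P P' x, _⟩ = _
        rw [← map_smul]
        exact congrArg _ (Subtype.ext (hψ a x).symm)
      rw [h1]
      show π (σ.symm (σ (a ⊗ₜ[P] x))) = _
      rw [LinearEquiv.symm_apply_apply, LinearMap.liftBaseChange_tmul]
      show a • ((1 : P' ⧸ J) ⊗ₜ[P ⧸ I] I.toCotangent x) = _
      rw [TensorProduct.smul_tmul', ← Algebra.algebraMap_eq_smul_one]
      rfl
  have hχ : Function.Surjective χ := fun w => by
    obtain ⟨v, rfl⟩ := J.toCotangent_surjective w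
    obtain ⟨z, rfl⟩ := σ.surjective v
    induction z using TensorProduct.induction_on with
    | zero => exact ⟨0, by simp⟩
    | add a b ha hb =>
      obtain ⟨x, hx⟩ := ha
      obtain ⟨y, hy⟩ := hb
      exact ⟨x + y, by rw [map_add, hx, hy, map_add, map_add]⟩
    | tmul a x =>
      refine ⟨Ideal.Quotient.mk J a ⊗ₜ I.toCotangent x, ?_⟩
      show m'.liftBaseChange (P' ⧸ J) _ = _
      rw [LinearMap.liftBaseChange_tmul]
      rw [← Ideal.Quotient.algebraMap_eq, algebraMap_smul]
      show a • J.toCotangent ⟨algebraMap P P' x, _⟩ = _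
      rw [← map_smul]
      exact congrArg _ (Subtype.ext (hψ a x).symm)
  exact Module.Flat.of_linearEquiv (LinearEquiv.ofBijective χ ⟨Function.LeftInverse.injective hθχ, hχ⟩).symm

end Groth.FrobLCI.NLFlat
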