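import Groth.Prelude.Def_LCI2
import Groth.Agent.FrobLCI.NLFlat.Cotangent
import Groth.Agent.DAlg.TorDim
import Mathlib.Algebra.Homology.DerivedCategory.ShortExact

/-!
Tor amplitude of a two term complex with flat degree zero term.
-/

universe u

open CategoryTheory CategoryTheory.Limits CategoryTheory.Pretriangulated HomologicalComplex

attribute [local instance] HasDerivedCategory.standard

namespace Groth.FrobLCI.NLFlat

open Groth.DAlg

variable {R : Type u} [CommRing R] {C F : ModuleCat.{u} R} (d : C ⟶ F)

theorem rel : (ComplexShape.up ℤ).Rel (-1) 0 := by simp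

/-- A two term complex of flat modules has tor amplitude `[-1, 0]`. -/
theorem torAmp_double [Module.Flat R C] [Module.Flat R F] :
    DRing.HasTorAmplitudeIn R (-1) 0 (DRing.toD (double d rel)) := by
  refine ⟨double d rel, fun i hi => isZero_double_X _ _ i (by omega) (by omega), fun i => ?_, ⟨Iso.refl _⟩⟩
  by_cases h : i = -1
  · subst h
    exact Module.Flat.of_linearEquiv (doubleXIso₀ d rel).toLinearEquiv
  by_cases h' : i = 0
  · subst h'
    exact Module.Flat.of_linearEquiv (doubleXIso₁ d rel (by decide)).toLinearEquiv
  · have := ModuleCat.subsingleton_of_isZero (isZero_double_X d rel i h h')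
    infer_instance

/-- The degree zero term as a subcomplex. -/
noncomputable def incl : (single (ModuleCat.{u} R) (ComplexShape.up ℤ) 0).obj F ⟶ double d rel :=
  mkHomFromSingle (doubleXIso₁ d rel (by decide)).inv fun j hj => by
    rw [double_d_eq_zero₀ _ _ _ _ (by decide), comp_zero]

/-- The projection to the degree `-1` term. -/
noncomputable def proj : double d rel ⟶ (single (ModuleCat.{u} R) (ComplexShape.up ℤ) (-1)).obj C :=
  mkHomToSingle (doubleXIso₀ d rel).hom fun j hj => by
    rw [double_d_eq_zero₁ _ _ _ _ (by decide), zero_comp]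

theorem incl_proj : incl d ≫ proj d = 0 := by
  refine HomologicalComplex.from_single_hom_ext ?_
  rw [comp_f]
  exact (isZero_single_obj_X (ComplexShape.up ℤ) (-1 : ℤ) C 0 (by decide)).eq_of_tgt _ _

theorem shortExact : (ShortComplex.mk (incl d) (proj d) (incl_proj d)).ShortExact := by
  refine HomologicalComplex.shortExact_of_degreewise_shortExact _ fun i => ?_
  refine (ShortComplex.Splitting.shortExact ?_)
  by_cases h : i = 0
  · subst h
    have h1 : IsIso ((incl d).f 0) := by
      simp only [incl, mkHomFromSingle_f]
      infer_instance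
    have h0 : (0 : ℤ) ≠ -1 := by decide
    exact ShortComplex.Splitting.ofIsIsoOfIsZero _ h1
      (isZero_single_obj_X (ComplexShape.up ℤ) (-1 : ℤ) C 0 h0)
  · have h1 : IsIso ((proj d).f i) := by
      by_cases h' : i = -1
      · subst h'
        simp only [proj, mkHomToSingle_f]
        infer_instance
      · exact ⟨0, (isZero_double_X d rel i h' h).eq_of_src _ _,
          (isZero_single_obj_X (ComplexShape.up ℤ) (-1 : ℤ) C i h').eq_of_src _ _⟩
    exact ShortComplex.Splitting.ofIsZeroOfIsIso _
      (isZero_single_obj_X (ComplexShape.up ℤ) (0 : ℤ) F i h) h1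

/-- If a two term complex has tor amplitude `[-1, 0]` and its degree zero term is flat, then so is the
other term. -/
theorem flat_of_torAmp [Module.Flat R F] (h : DRing.HasTorAmplitudeIn R (-1) 0 (DRing.toD (double d rel))) :
    Module.Flat R C := by
  have hF : DRing.HasTorAmplitudeIn R (-1 + 1) (0 + 1)
      (DerivedCategory.Q.obj ((single (ModuleCat.{u} R) (ComplexShape.up ℤ) 0).obj F)) :=
    TorAmp.of_iso (TorAmp.mono (torAmp_mD_of_flat F) (by omega) (by omega))
      ((DerivedCategory.singleFunctorIsoCompQ _ 0).app F)
  have h3 := TorAmp.cone (DerivedCategory.triangleOfSES_distinguished (shortExact d)) hF h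
  have h4 : DRing.HasTorAmplitudeIn R (-1) 0 ((DerivedCategory.singleFunctor (ModuleCat.{u} R) (-1)).obj C) :=
    TorAmp.of_iso h3 ((DerivedCategory.singleFunctorIsoCompQ _ (-1)).app C).symm
  have h5 : DRing.HasTorAmplitudeIn R (-1 - -1) (0 - -1) (mD C) :=
    TorAmp.of_iso (TorAmp.shift h4 (-1))
      (((DerivedCategory.singleFunctors (ModuleCat.{u} R)).shiftIso (-1) 0 (-1) (by omega)).app C)
  exact flat_of_torAmp_zero (TorAmp.top (TorAmp.mono h5 (by omega) le_rfl) fun i hi =>
    subsingleton_HD_mD _ (by omega))

end Groth.FrobLCI.NLFlat
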